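import Mathlib.RingTheory.Derivation.Basic
import Mathlib.Algebra.TrivSqZeroExt.Basic
import Mathlib.RingTheory.Localization.FractionRing
import Mathlib.RingTheory.IntegralClosure.Algebra.Basic
import Mathlib.RingTheory.IntegralClosure.IsIntegral.Basic
import Mathlib.RingTheory.Derivation.MapCoeffs
import Mathlib.RingTheory.Noetherian.Basic
import Mathlib.RingTheory.Adjoin.Basic
import Mathlib.RingTheory.Localization.Integer
import Mathlib.Algebra.Polynomial.Derivation

/-!
Derivations of a Noetherian ring extend to its normalization in characteristic zero.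
-/

set_option autoImplicit false
universe u

namespace Groth.L28.DerivNorm

open Polynomial TrivSqZeroExt

variable {k : Type u} [CommRing k] {A : Type u} [CommRing A] [Algebra k A]

/-- a derivation as a ring map to dual numbers of the fraction ring -/
noncomputable def toDual (D : Derivation k A A) : A →+* TrivSqZeroExt (FractionRing A) (FractionRing A) where
  toFun a := inl (algebraMap A _ a) + inr (algebraMap A _ (D a))
  map_one' := by ext <;> simp
  map_zero' := by ext <;> simp
  map_add' a b := by ext <;> simp
  map_mul' a b := by
    ext <;> simp [Derivation.leibniz, mul_comm]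

/-- the extension to the fraction ring -/
noncomputable def liftDual (D : Derivation k A A) :
    FractionRing A →+* TrivSqZeroExt (FractionRing A) (FractionRing A) :=
  IsLocalization.lift (M := nonZeroDivisors A) (g := toDual D) fun s => by
    rw [isUnit_iff_isUnit_fst]
    simpa [toDual] using IsLocalization.map_units (FractionRing A) s

lemma fst_liftDual (D : Derivation k A A) (x : FractionRing A) : fst (liftDual D x) = x := by
  have : ((fstHom (FractionRing A) (FractionRing A) (FractionRing A)).toRingHom).comp (liftDual D) = RingHom.id _ := by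
    refine IsLocalization.ringHom_ext (nonZeroDivisors A) (RingHom.ext fun a => ?_)
    simp only [RingHom.comp_apply, liftDual, IsLocalization.lift_eq]
    simp [toDual]
  exact RingHom.congr_fun this x

/-- the extension of `D` to the fraction ring -/
noncomputable def extend (D : Derivation k A A) : Derivation k (FractionRing A) (FractionRing A) :=
  Derivation.mk'
    { toFun := fun x => snd (liftDual D x)
      map_add' := fun x y => by simp
      map_smul' := fun c x => by
        have hc : liftDual D (algebraMap k (FractionRing A) c) = inl (algebraMap k (FractionRing A) c) := by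
          rw [IsScalarTower.algebraMap_apply k A (FractionRing A), liftDual, IsLocalization.lift_eq]
          ext <;> simp [toDual, ← IsScalarTower.algebraMap_apply]
        rw [Algebra.smul_def, map_mul, hc, RingHom.id_apply, Algebra.smul_def]
        simp }
    fun x y => by
      show snd (liftDual D (x * y)) = x • snd (liftDual D y) + y • snd (liftDual D x)
      rw [map_mul, snd_mul, fst_liftDual, fst_liftDual]
      simp [mul_comm]

lemma extend_algebraMap (D : Derivation k A A) (a : A) :
    extend D (algebraMap A (FractionRing A) a) = algebraMap A _ (D a) := by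
  show snd (liftDual D _) = _
  rw [liftDual, IsLocalization.lift_eq]
  simp [toDual]

lemma mem_range_iterate (D : Derivation k A A) {y : FractionRing A}
    (hy : y ∈ (algebraMap A (FractionRing A)).range) (j : ℕ) :
    (extend D)^[j] y ∈ (algebraMap A (FractionRing A)).range := by
  induction j with
  | zero => exact hy
  | succ j ih =>
    obtain ⟨a, ha⟩ := ih
    rw [Function.iterate_succ_apply', ← ha, extend_algebraMap]
    exact ⟨_, rfl⟩

variable {K : Type u} [CommRing K] [Algebra k K]

/-- a derivation of `K` applied to the coefficients of a polynomial -/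
noncomputable def mapK (E : Derivation k K K) : Derivation k K[X] K[X] :=
  PolynomialModule.equivPolynomialSelf.compDer E.mapCoeffs

lemma mapK_coeff (E : Derivation k K K) (p : K[X]) (t : ℕ) : (mapK E p).coeff t = E (p.coeff t) := rfl

@[simp] lemma mapK_C (E : Derivation k K K) (c : K) : mapK E (C c) = C (E c) := by
  ext t; rw [mapK_coeff, coeff_C, coeff_C]; split <;> simp

@[simp] lemma mapK_X (E : Derivation k K K) : mapK E X = 0 := by
  ext t; rw [mapK_coeff, coeff_X, coeff_zero]; split <;> simp

/-- derivative of a power times a cofactor -/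
lemma iterate_key (E : Derivation k K K) (z d : K[X]) (x : K) (hz : z.eval x = 0) :
    ∀ (i j : ℕ), j ≤ i → ∃ w : K[X], (mapK E)^[j] (z ^ i * d) = z ^ (i - j) * w ∧
      w.eval x = (i.descFactorial j : K) * d.eval x * ((mapK E z).eval x) ^ j := by
  intro i j hj
  induction j with
  | zero => exact ⟨d, by simp, by simp⟩
  | succ j ih =>
    obtain ⟨w, hw, hw'⟩ := ih (by omega)
    obtain ⟨r, hr⟩ : ∃ r, i - j = r + 1 := ⟨i - j - 1, by omega⟩
    refine ⟨((r + 1 : ℕ) : K[X]) * w * mapK E z + z * mapK E w, ?_, ?_⟩
    · rw [Function.iterate_succ_apply', hw, hr, show i - (j + 1) = r by omega, Derivation.leibniz,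
        Derivation.leibniz_pow]
      simp only [smul_eq_mul, nsmul_eq_mul, add_tsub_cancel_right]
      ring
    · rw [Polynomial.eval_add, Polynomial.eval_mul, Polynomial.eval_mul, Polynomial.eval_mul, hz,
        Polynomial.eval_natCast, hw', Nat.descFactorial_succ, hr]
      push_cast
      ring

lemma mapCoeffs_iterate_C (E : Derivation k K K) (c : K) (j : ℕ) :
    (mapK E)^[j] (C c) = C (E^[j] c) := by
  induction j with
  | zero => rfl
  | succ j ih => rw [Function.iterate_succ_apply', Function.iterate_succ_apply', ih, mapK_C]

section

variable [IsNoetherianRing A] (hQ : ∀ n : ℕ, n ≠ 0 → IsUnit (n : A))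

include hQ

theorem isIntegral_extend (D : Derivation k A A) (x : FractionRing A) (hx : IsIntegral A x) :
    IsIntegral A (extend D x) := by
  -- a denominator `d` for all powers of `x`
  obtain ⟨d, hd⟩ : ∃ d : nonZeroDivisors A, ∀ i : ℕ,
      algebraMap A (FractionRing A) d * x ^ i ∈ (algebraMap A (FractionRing A)).range := by
    classical
    obtain ⟨s, hs⟩ := hx.fg_adjoin_singleton
    obtain ⟨d, hd⟩ := IsLocalization.exist_integer_multiples_of_finset (nonZeroDivisors A) s
    refine ⟨d, fun i => ?_⟩
    have hmem : x ^ i ∈ Submodule.span A (s : Set (FractionRing A)) :=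
      hs ▸ pow_mem (Algebra.self_mem_adjoin_singleton A x) i
    refine Submodule.span_induction (p := fun y _ => algebraMap A (FractionRing A) (d : A) * y ∈ _)
      ?_ ?_ ?_ ?_ hmem
    · intro y hy
      obtain ⟨a, ha⟩ := hd y hy
      exact ⟨a, by rw [ha, Algebra.smul_def]⟩
    · exact ⟨0, by simp⟩
    · intro y₁ y₂ _ _ h₁ h₂
      rw [mul_add]; exact Subring.add_mem _ h₁ h₂
    · intro a y _ h
      rw [Algebra.smul_def, mul_left_comm]; exact Subring.mul_mem _ ⟨a, rfl⟩ h
  set E := extend D with hE
  set dK : FractionRing A := algebraMap A _ (d : A) with hdK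
  -- `d * (i! * d * (D x) ^ i)` is in the image of `A`
  have hkey : ∀ i : ℕ, dK * dK * (E x) ^ i ∈ (algebraMap A (FractionRing A)).range := by
    intro i
    obtain ⟨w, hw, hw'⟩ := iterate_key E (C x - X) (C dK) x (by simp) i i le_rfl
    rw [Nat.sub_self, pow_zero, one_mul] at hw
    have hexp : (C x - X) ^ i * C dK = ∑ t ∈ Finset.range (i + 1),
        C (dK * x ^ (i - t)) * ((-X) ^ t * (i.choose t : (FractionRing A)[X])) := by
      rw [sub_eq_add_neg, add_comm, add_pow, Finset.sum_mul]
      refine Finset.sum_congr rfl fun t _ => ?_
      rw [map_mul, map_pow]; ring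
    have hcoef : ∀ t, w.coeff t ∈ (algebraMap A (FractionRing A)).range := by
      intro t
      have hcoe : ∀ (j : ℕ) (p : (FractionRing A)[X]),
          ((mapK E)^[j] p).coeff t = E^[j] (p.coeff t) := by
        intro j
        induction j with
        | zero => intro p; rfl
        | succ j ih => intro p; rw [Function.iterate_succ_apply', Function.iterate_succ_apply',
            mapK_coeff, ih]
      rw [← hw, hcoe]
      refine mem_range_iterate D ?_ i
      rw [hexp, Polynomial.finsetSum_coeff]
      refine Subring.sum_mem _ fun s _ => ?_
      rw [Polynomial.coeff_C_mul]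
      refine Subring.mul_mem _ (hd _) ?_
      rw [show ((-X) ^ s * (i.choose s : (FractionRing A)[X])) =
          ((-X) ^ s * (i.choose s : A[X])).map (algebraMap A (FractionRing A)) by simp, Polynomial.coeff_map]
      exact ⟨_, rfl⟩
    have hev : dK * w.eval x ∈ (algebraMap A (FractionRing A)).range := by
      rw [Polynomial.eval_eq_sum, Polynomial.sum_def, Finset.mul_sum]
      refine Subring.sum_mem _ fun t _ => ?_
      rw [← mul_assoc, mul_comm dK, mul_assoc]
      exact Subring.mul_mem _ (hcoef t) (hd t)
    rw [hw', Nat.descFactorial_self, Polynomial.eval_C] at hev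
    have hz : (mapK E (C x - X)).eval x = E x := by simp
    rw [hz] at hev
    obtain ⟨v, hv⟩ := (hQ _ (Nat.factorial_ne_zero i)).exists_left_inv
    have : dK * dK * E x ^ i = algebraMap A _ v * (dK * ((i.factorial : FractionRing A) * dK * E x ^ i)) := by
      have h1 : algebraMap A (FractionRing A) v * (i.factorial : FractionRing A) = 1 := by
        rw [← map_natCast (algebraMap A (FractionRing A)), ← map_mul, hv, map_one]
      linear_combination (-(dK * dK * E x ^ i)) * h1
    rw [this]
    exact Subring.mul_mem _ ⟨v, rfl⟩ hev
  have hu : IsUnit dK := IsLocalization.map_units (FractionRing A) d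
  refine IsIntegral.of_mem_of_fg (Algebra.adjoin A {E x}) ?_ _ (Algebra.self_mem_adjoin_singleton A _)
  obtain ⟨v, hv⟩ := (hu.mul hu).exists_left_inv
  have hN : IsNoetherian A (Submodule.span A ({v} : Set (FractionRing A))) :=
    isNoetherian_of_fg_of_noetherian _ (Submodule.fg_span_singleton v)
  refine isNoetherian_submodule.1 hN _ ?_
  intro y hy
  rw [Subalgebra.mem_toSubmodule] at hy
  have hmem : y ∈ Submodule.span A (Submonoid.closure {E x} : Set (FractionRing A)) := by
    rw [← Algebra.adjoin_eq_span]; exact hy
  refine Submodule.span_le.2 ?_ hmem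
  intro y hy
  obtain ⟨i, rfl⟩ := Submonoid.mem_closure_singleton.1 hy
  obtain ⟨a, ha⟩ := hkey i
  refine Submodule.mem_span_singleton.2 ⟨a, ?_⟩
  rw [Algebra.smul_def, ha, mul_comm (dK * dK), mul_assoc, mul_comm (dK * dK), hv, mul_one]

theorem exists_extension (D : Derivation k A A) :
    ∃ D' : Derivation k (integralClosure A (FractionRing A)) (integralClosure A (FractionRing A)),
      ∀ a : A, (D' (algebraMap A (integralClosure A (FractionRing A)) a) : FractionRing A) =
        algebraMap A (FractionRing A) (D a) := by
  refine ⟨Derivation.mk'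
    { toFun := fun x => ⟨extend D x.1, isIntegral_extend hQ D x.1 x.2⟩
      map_add' := fun x y => Subtype.ext (map_add (extend D) _ _)
      map_smul' := fun c x => Subtype.ext (Derivation.map_smul _ c _) }
    (fun x y => Subtype.ext ((extend D).leibniz _ _)), fun a => extend_algebraMap D a⟩

end

end Groth.L28.DerivNorm
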